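import Groth.Agent.UnipOrbit.Alg
import Groth.Agent.GrpSchLib.Homogeneous
import Groth.Agent.GrpSchLib.Action
import Groth.Prelude.Def_Mor2
import Mathlib.AlgebraicGeometry.Group.Affine
import Mathlib.AlgebraicGeometry.QuasiAffine
import Mathlib.FieldTheory.IsAlgClosed.AlgebraicClosure

/-! Orbits of unipotent groups on quasi-affine schemes are closed. -/

set_option autoImplicit false
universe u
open CategoryTheory MonoidalCategory CartesianMonoidalCategory MonObj GrpObj AlgebraicGeometry CategoryTheory.Limits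
open TensorProduct WithConv

namespace Groth.Agent.UnipOrbit

theorem isClosed_range_orbitMap_aux (k : Type u) [Field k] (K : Type u) [Field K] [IsAlgClosed K] [Algebra k K] (A : Type u) [CommRing A] [HopfAlgebra k A] [Algebra.FiniteType k A]
    (hU : HopfRep.IsUnipotent k A) (X : Over (Spec (CommRingCat.of k))) [LocallyOfFiniteType X.hom]
    (hX : Mor2.IsQuasiAffine X.hom)
    (a : AlgGrp.Action ((Spec (CommRingCat.of A)).asOver (Spec (CommRingCat.of k))) X)
    (x : 𝟙_ (Over (Spec (CommRingCat.of k))) ⟶ X) :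
    IsClosed (Set.range (a.orbitMap x).left.base) := by
  let G := (Spec (CommRingCat.of A)).asOver (Spec (CommRingCat.of k))
  let o : G ⟶ X := a.orbitMap x
  let O : Set X.left := Set.range o.left.base
  show IsClosed O
  haveI hGlft : LocallyOfFiniteType G.hom :=
    inferInstanceAs (LocallyOfFiniteType (Spec (CommRingCat.of A) ↘ Spec (CommRingCat.of k)))
  haveI : IsAffine G.left := inferInstanceAs (IsAffine (Spec (CommRingCat.of A)))
  let η₀ : G.left := (η[G] : 𝟙_ _ ⟶ G).left (IsLocalRing.closedPoint k)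
  haveI : Nonempty G.left := ⟨η₀⟩
  haveI hQA : X.left.IsQuasiAffine := by
    have h := hX.2 ⊤ (isAffineOpen_top _)
    haveI : ((⊤ : X.left.Opens).toScheme).IsQuasiAffine := h
    exact Scheme.IsQuasiAffine.of_isAffineHom X.left.topIso.inv
  haveI : QuasiSeparatedSpace X.left := by
    haveI : X.left.IsSeparated := inferInstance
    infer_instance
  haveI : QuasiCompact o.left := inferInstance
  -- geometric picture
  let QK : Over (Spec (CommRingCat.of k)) := Over.mk (Spec.map (CommRingCat.ofHom (algebraMap k K)))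
  have hlc : IsLocallyClosed O :=
    GrpSchLib.isLocallyClosed_range_of_homogeneous (K := K) o fun w w' => by
      obtain ⟨S, T, h1, -, h3⟩ := GrpSchLib.orbitMap_homogeneous a x w w'
      exact ⟨S, T, h1, h3⟩
  let C : Set X.left := closure O \ O
  have hC : IsClosed C := ⟨hlc.isOpen_coborder⟩
  let x₀ : X.left := o.left η₀
  obtain ⟨_, ⟨_, ⟨f, -, rfl⟩, rfl⟩, hxf, hfC⟩ :=
    (Scheme.IsQuasiAffine.isBasis_basicOpen X.left).exists_subset_of_mem_open
      (show x₀ ∈ Cᶜ from fun h => h.2 ⟨η₀, rfl⟩) hC.isOpen_compl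
  by_contra hnc
  obtain ⟨y, hy⟩ : C.Nonempty := by
    by_contra h
    exact hnc (closure_subset_iff_isClosed.mp (Set.sdiff_eq_empty.mp (Set.not_nonempty_iff_eq_empty.mp h)))
  -- the base change
  let pr : (X ⊗ QK).left ⟶ X.left := (fst X QK).left
  haveI : Surjective (Spec.map (CommRingCat.ofHom (algebraMap k K))) :=
    ⟨Function.surjective_to_subsingleton (α := Spec (CommRingCat.of K)) (β := Spec (CommRingCat.of k)) _⟩
  haveI hprs : Surjective pr := inferInstanceAs (Surjective (pullback.fst X.hom (Spec.map (CommRingCat.ofHom (algebraMap k K)))))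
  have hpro : IsOpenMap pr := (inferInstanceAs (UniversallyOpen (pullback.fst X.hom (Spec.map (CommRingCat.ofHom (algebraMap k K))))) :
    UniversallyOpen pr).universally_isOpenMap _ _ _ IsPullback.of_id_snd
  let W := (Spec (CommRingCat.of (K ⊗[k] A))).asOver (Spec (CommRingCat.of k))
  let p : W ⟶ G := Spec.mapMulEquiv (toConv (R (k := k) (K := K) (A := A)))
  let q : W ⟶ QK := Over.homMk (Spec.map (CommRingCat.ofHom (algebraMap K (K ⊗[k] A)))) (by
    show Spec.map _ ≫ Spec.map _ = Spec.map _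
    rw [← Spec.map_comp, ← CommRingCat.ofHom_comp, ← IsScalarTower.algebraMap_eq k K (K ⊗[k] A)])
  let oW : W ⟶ X ⊗ QK := lift (p ≫ o) q
  have hWpb : IsPullback p.left q.left G.hom QK.hom :=
    (isPullback_SpecMap_of_isPushout (CommRingCat.ofHom (algebraMap k K)) (CommRingCat.ofHom (algebraMap k A))
      (CommRingCat.ofHom (algebraMap K (K ⊗[k] A))) (CommRingCat.ofHom (R (k := k) (K := K) (A := A)).toRingHom)
      (CommRingCat.isPushout_tensorProduct k K A)).flip
  have hoW : oW.left ≫ pr = p.left ≫ o.left := congrArg CommaMorphism.left (lift_fst (p ≫ o) q)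
  have hXpb : IsPullback oW.left p.left pr o.left := by
    refine IsPullback.flip (IsPullback.of_bot ?_ hoW.symm (IsPullback.of_hasPullback X.hom QK.hom))
    have h2 : oW.left ≫ pullback.snd X.hom QK.hom = q.left := congrArg CommaMorphism.left (lift_snd (p ≫ o) q)
    rw [h2, Over.w o]
    exact hWpb
  -- translations
  have htr : ∀ zA : A →ₐ[k] K, ∃ T : X ⊗ QK ≅ X ⊗ QK,
      oW.left ≫ T.hom.left = Spec.map (CommRingCat.ofHom (trans zA).toRingHom) ≫ oW.left ∧
        T.hom.left.base ⁻¹' (pr.base ⁻¹' O) = pr.base ⁻¹' O ∧ T.hom ≫ snd X QK = snd X QK := by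
    intro zA
    let τ : (A →ₐ[k] K) → (X ⊗ QK ⟶ X ⊗ QK) := fun z =>
      lift (lift (snd X QK ≫ Spec.mapMulEquiv (toConv z)) (fst X QK) ≫ a.act) (snd X QK)
    have hτ : ∀ z, oW ≫ τ z = lift (lift (q ≫ Spec.mapMulEquiv (toConv z) * p) (toUnit W ≫ x) ≫ a.act) q := by
      intro z
      simp only [τ, oW, o, AlgGrp.Action.orbitMap, comp_lift, ← Category.assoc, lift_fst, lift_snd, comp_toUnit,
        Category.comp_id]
      rw [GrpSchLib.act_mul, toUnit_unique (p ≫ toUnit G) (toUnit W)]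
      erw [Category.comp_id]
    have hS : ∀ z : A →ₐ[k] K, ∃ S : W ⟶ W,
        S.left = Spec.map (CommRingCat.ofHom (trans z).toRingHom) ∧ oW ≫ τ z = S ≫ oW := by
      intro z
      let S : W ⟶ W := Over.homMk (Spec.map (CommRingCat.ofHom (trans z).toRingHom)) (by
        show Spec.map _ ≫ Spec.map _ = Spec.map _
        rw [← Spec.map_comp, ← CommRingCat.ofHom_comp]
        congr 2
        exact ((trans z).restrictScalars k).comp_algebraMap)
      refine ⟨S, rfl, ?_⟩
      · rw [hτ]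
        simp only [oW, o, AlgGrp.Action.orbitMap, comp_lift, ← Category.assoc, comp_toUnit, Category.comp_id]
        have e1 : S ≫ q = q := by
          ext1
          show Spec.map _ ≫ Spec.map _ = Spec.map _
          rw [← Spec.map_comp, ← CommRingCat.ofHom_comp]
          congr 2
          exact (trans z).comp_algebraMap
        have e2 : S ≫ p =
            q ≫ Spec.mapMulEquiv (toConv z) * p := by
          have : (q ≫ Spec.mapMulEquiv (toConv z) : W ⟶ G) = Spec.mapMulEquiv (toConv ((L (A := A)).comp z)) := by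
            ext1
            show Spec.map _ ≫ Spec.map _ = Spec.map _
            rw [← Spec.map_comp, ← CommRingCat.ofHom_comp]
            rfl
          rw [this, show p = Spec.mapMulEquiv (toConv (R (k := k) (K := K) (A := A))) from rfl, ← map_mul]
          ext1
          show Spec.map _ ≫ Spec.map _ = Spec.map _
          rw [← Spec.map_comp, ← CommRingCat.ofHom_comp]
          congr 2
          ext b
          show trans z ((1 : K) ⊗ₜ b) = transR z b
          rw [trans_tmul, ← Algebra.TensorProduct.one_def, _root_.one_mul]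
        rw [e1, e2, toUnit_unique (_ ≫ toUnit G) (toUnit W)]
        erw [Category.comp_id]
    have hinv : ∀ z : A →ₐ[k] K, ∃ z' : A →ₐ[k] K, τ z ≫ τ z' = 𝟙 _ ∧ τ z' ≫ τ z = 𝟙 _ := by
      intro z
      let z' := (Spec.mapMulEquiv.symm ((Spec.mapMulEquiv (toConv z) : QK ⟶ G)⁻¹)).ofConv
      have hz' : Spec.mapMulEquiv (toConv z') = (Spec.mapMulEquiv (toConv z) : QK ⟶ G)⁻¹ := by
        show Spec.mapMulEquiv (Spec.mapMulEquiv.symm _) = _
        exact MulEquiv.apply_symm_apply _ _
      let ζ : (A →ₐ[k] K) → (QK ⟶ G) := fun z => Spec.mapMulEquiv (toConv z)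
      have hcomp : ∀ z₁ z₂, ζ z₂ * ζ z₁ = 1 → τ z₁ ≫ τ z₂ = 𝟙 _ := by
        intro z₁ z₂ h12
        show τ z₁ ≫ lift (lift (snd X QK ≫ ζ z₂) (fst X QK) ≫ a.act) (snd X QK) = 𝟙 _
        have hτs : τ z₁ ≫ snd X QK = snd X QK := lift_snd _ _
        have hτf : τ z₁ ≫ fst X QK = lift (snd X QK ≫ ζ z₁) (fst X QK) ≫ a.act := lift_fst _ _
        rw [comp_lift, ← Category.assoc (τ z₁), comp_lift, ← Category.assoc (τ z₁) (snd X QK), hτs, hτf,
          GrpSchLib.act_mul, ← MonObj.comp_mul, h12, MonObj.comp_one, GrpSchLib.act_one, lift_fst_snd]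
      exact ⟨z', hcomp z z' (by simp only [ζ]; rw [hz']; exact inv_mul_cancel _),
        hcomp z' z (by simp only [ζ]; rw [hz']; exact mul_inv_cancel _)⟩
    obtain ⟨z', h1, h2⟩ := hinv zA
    let T : X ⊗ QK ≅ X ⊗ QK := ⟨τ zA, τ z', h1, h2⟩
    obtain ⟨S, hS1, hS2⟩ := hS zA
    refine ⟨T, ?_, ?_, lift_snd _ _⟩
    · rw [← hS1]
      exact congrArg CommaMorphism.left hS2
    have hsub : ∀ z, (τ z).left.base '' (pr.base ⁻¹' O) ⊆ pr.base ⁻¹' O := by
      rintro z _ ⟨w, ⟨g, hg⟩, rfl⟩
      obtain ⟨v, hv1, hv2⟩ := Scheme.exists_preimage_of_isPullback hXpb w g hg.symm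
      obtain ⟨S, -, hS2⟩ := hS z
      refine ⟨p.left (S.left v), ?_⟩
      rw [← Scheme.Hom.comp_apply, ← hoW, Scheme.Hom.comp_apply]
      refine congrArg pr.base ?_
      rw [← hv1, ← Scheme.Hom.comp_apply, ← Over.comp_left, ← hS2, Over.comp_left, Scheme.Hom.comp_apply]
    refine Set.Subset.antisymm (fun w hw => ?_) (fun w hw => hsub zA ⟨w, hw, rfl⟩)
    have := hsub z' ⟨_, hw, rfl⟩
    rwa [← Scheme.Hom.comp_apply, ← Over.comp_left, h1] at this
  -- pullback of functions
  let Γo : Γ((X ⊗ QK).left, ⊤) →+* K ⊗[k] A :=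
    ((Scheme.ΓSpecIso (CommRingCat.of (K ⊗[k] A))).hom.hom).comp oW.left.appTop.hom
  have hbo : ∀ h : Γ((X ⊗ QK).left, ⊤), ∀ v : PrimeSpectrum (K ⊗[k] A),
      oW.left.base v ∈ (X ⊗ QK).left.basicOpen h ↔ v ∈ PrimeSpectrum.basicOpen (Γo h) := by
    intro h v
    show v ∈ oW.left ⁻¹ᵁ (X ⊗ QK).left.basicOpen h ↔ _
    rw [Scheme.preimage_basicOpen]
    erw [basicOpen_eq_of_affine']
    rfl
  let qX : Γ((X ⊗ QK).left, ⊤) := pr.appTop f
  have hqX : ∀ w : (X ⊗ QK).left, w ∈ (X ⊗ QK).left.basicOpen qX ↔ pr.base w ∈ X.left.basicOpen f := by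
    intro w
    show _ ↔ w ∈ pr ⁻¹ᵁ X.left.basicOpen f
    rw [Scheme.preimage_basicOpen]
    rfl
  let C' : Set (X ⊗ QK).left := pr.base ⁻¹' C
  have hvan : Disjoint ((X ⊗ QK).left.basicOpen qX : Set (X ⊗ QK).left) C' :=
    Set.disjoint_left.2 fun w hw hwC => hfC ((hqX w).1 hw) hwC
  obtain ⟨v₀, -, hv₀⟩ : ∃ v : W.left, pr.base (oW.left v) = x₀ ∧ oW.left.base v ∈ (X ⊗ QK).left.basicOpen qX := by
    obtain ⟨w, hw⟩ := pr.surjective x₀
    obtain ⟨v, hv1, hv2⟩ := Scheme.exists_preimage_of_isPullback hXpb w η₀ hw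
    have : pr.base (oW.left v) = x₀ := by rw [hv1]; exact hw
    exact ⟨v, this, (hqX _).2 (by rw [this]; exact hxf)⟩
  have hnil : ¬ IsNilpotent (Γo qX) := fun h => by
    have := (hbo qX v₀).1 hv₀
    rw [(PrimeSpectrum.basicOpen_eq_bot_iff _).2 h] at this
    exact this
  obtain ⟨F, hFtop, hF0, hF⟩ := exists_filtration hU K
  classical
  let P : ℕ → Prop := fun r => ∃ h : Γ((X ⊗ QK).left, ⊤),
    Disjoint ((X ⊗ QK).left.basicOpen h : Set (X ⊗ QK).left) C' ∧ ¬ IsNilpotent (Γo h) ∧ Γo h ∈ F r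
  have hP : ∃ r, P r := by
    obtain ⟨r, hr⟩ := hFtop (Γo qX)
    exact ⟨r, qX, hvan, hnil, hr⟩
  obtain ⟨h, hh, hhn, hhr⟩ := Nat.find_spec hP
  haveI : IsJacobsonRing (K ⊗[k] A) := isJacobsonRing_of_finiteType (A := K)
  have hinvar : ∀ zA : A →ₐ[k] K, IsNilpotent (trans zA (Γo h) - Γo h) := by
    intro zA
    rcases Nat.eq_zero_or_pos (Nat.find hP) with hr0 | hr0
    · obtain ⟨c, hc⟩ := hF0 _ (hr0 ▸ hhr)
      rw [hc, AlgHom.commutes, sub_self]
      exact IsNilpotent.zero
    by_contra hn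
    obtain ⟨T, hT1, hT2, -⟩ := htr zA
    haveI : IsIso T.hom.left := ((Over.forget _).mapIso T).isIso_hom
    have hT3 : T.hom.left.base ⁻¹' C' = C' := by
      show T.hom.left.base ⁻¹' (pr.base ⁻¹' (closure O \ O)) = pr.base ⁻¹' (closure O \ O)
      rw [Set.preimage_sdiff, Set.preimage_sdiff, hpro.preimage_closure_eq_closure_preimage pr.continuous, hT2,
        T.hom.left.isOpenMap.preimage_closure_eq_closure_preimage T.hom.left.continuous, hT2]
    have hg : Γo (T.hom.left.appTop h - h) = trans zA (Γo h) - Γo h := by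
      rw [map_sub]
      congr 1
      have e := congrArg (fun m : W.left ⟶ (X ⊗ QK).left => (Scheme.ΓSpecIso (CommRingCat.of (K ⊗[k] A))).hom (m.appTop h)) hT1
      simp only [Scheme.Hom.comp_appTop, CommRingCat.comp_apply] at e
      refine e.trans ?_
      exact CategoryTheory.congr_fun (Scheme.ΓSpecIso_naturality (CommRingCat.ofHom (trans zA).toRingHom)) (oW.left.appTop h)
    have hlt : Nat.find hP - 1 < Nat.find hP := by omega
    refine Nat.find_min hP hlt ⟨T.hom.left.appTop h - h, ?_, hg ▸ hn, hg ▸ ?_⟩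
    · refine Set.disjoint_left.2 fun w hw hwC => ?_
      have h1 : T.hom.left.base w ∉ (X ⊗ QK).left.basicOpen h := fun h1 =>
        Set.disjoint_left.1 hh h1 (show w ∈ T.hom.left.base ⁻¹' C' from hT3.symm ▸ hwC)
      have h2 : w ∉ (X ⊗ QK).left.basicOpen h := fun h2 => Set.disjoint_left.1 hh h2 hwC
      have hwtop : w ∈ (⊤ : (X ⊗ QK).left.Opens) := trivial
      rw [SetLike.mem_coe, Scheme.mem_basicOpen _ _ w hwtop, map_sub] at hw
      have h1' : ¬ IsUnit ((X ⊗ QK).left.presheaf.germ ⊤ w hwtop (T.hom.left.appTop h)) := fun hu => h1 (by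
        show w ∈ T.hom.left ⁻¹ᵁ ((X ⊗ QK).left.basicOpen h)
        rw [Scheme.preimage_basicOpen]
        exact (Scheme.mem_basicOpen _ _ w hwtop).2 hu)
      have h2' : ¬ IsUnit ((X ⊗ QK).left.presheaf.germ ⊤ w hwtop h) := fun hu =>
        h2 ((Scheme.mem_basicOpen _ _ w hwtop).2 hu)
      exact (IsLocalRing.mem_maximalIdeal _).1 (sub_mem ((IsLocalRing.mem_maximalIdeal _).2 h1')
        ((IsLocalRing.mem_maximalIdeal _).2 h2')) hw
    · exact hF zA _ _ (by rw [Nat.sub_add_cancel hr0]; exact hhr)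
  let c : K := counitK (Γo h)
  have hval : IsNilpotent (Γo h - algebraMap K _ c) := by
    refine isNilpotent_of_points (K := K) fun v => ?_
    have hn := (hinvar ((v.restrictScalars k).comp R)).map (counitK (k := k) (K := K) (A := A))
    rw [map_sub] at hn
    have e : (counitK (k := k) (K := K) (A := A)).comp (trans ((v.restrictScalars k).comp R)) = v := by
      apply Algebra.TensorProduct.ext'
      intro t b
      rw [show t ⊗ₜ[k] b = t • ((1 : K) ⊗ₜ[k] b) by rw [TensorProduct.smul_tmul', smul_eq_mul, _root_.mul_one],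
        map_smul, map_smul, AlgHom.comp_apply, counitK_trans]
      rfl
    rw [← AlgHom.comp_apply, e] at hn
    rw [map_sub, AlgHom.commutes]
    exact hn.eq_zero
  have hc0 : c ≠ 0 := by
    intro hc
    rw [hc, map_zero, sub_zero] at hval
    exact hhn hval
  let cX : Γ((X ⊗ QK).left, ⊤) := (snd X QK).left.appTop ((Scheme.ΓSpecIso (CommRingCat.of K)).inv c)
  have hcX : Γo cX = algebraMap K _ c := by
    have e := congrArg (fun m : W.left ⟶ QK.left => (Scheme.ΓSpecIso (CommRingCat.of (K ⊗[k] A))).hom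
      (m.appTop ((Scheme.ΓSpecIso (CommRingCat.of K)).inv c))) (congrArg CommaMorphism.left (lift_snd (p ≫ o) q))
    simp only [Over.comp_left, Scheme.Hom.comp_appTop, CommRingCat.comp_apply] at e
    refine e.trans ((CategoryTheory.congr_fun (Scheme.ΓSpecIso_naturality (CommRingCat.ofHom (algebraMap K (K ⊗[k] A)))) _).trans ?_)
    exact congrArg (algebraMap K (K ⊗[k] A)) (CategoryTheory.congr_fun (Scheme.ΓSpecIso (CommRingCat.of K)).inv_hom_id c)
  have hdisj : Disjoint ((X ⊗ QK).left.basicOpen (h - cX) : Set (X ⊗ QK).left) (closure (pr.base ⁻¹' O)) := by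
    refine Disjoint.closure_right (Set.disjoint_left.2 fun w hw hwO => ?_) ((X ⊗ QK).left.basicOpen (h - cX)).2
    obtain ⟨g, hg⟩ := hwO
    obtain ⟨v, hv1, -⟩ := Scheme.exists_preimage_of_isPullback hXpb w g hg.symm
    have h1 : v ∈ PrimeSpectrum.basicOpen (Γo (h - cX)) := (hbo _ v).1 (by rw [← hv1] at hw; exact hw)
    rw [map_sub, hcX, (PrimeSpectrum.basicOpen_eq_bot_iff _).2 hval] at h1
    exact h1
  obtain ⟨w, hw⟩ := pr.surjective y
  have hwC : w ∈ C' := by show pr.base w ∈ C; rw [show pr.base w = y from hw]; exact hy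
  have hwcl : w ∈ closure (pr.base ⁻¹' O) := by
    rw [← hpro.preimage_closure_eq_closure_preimage pr.continuous]
    exact hwC.1
  have hwtop : w ∈ (⊤ : (X ⊗ QK).left.Opens) := trivial
  have n1 : ¬ IsUnit ((X ⊗ QK).left.presheaf.germ ⊤ w hwtop h) := fun hu =>
    Set.disjoint_left.1 hh ((Scheme.mem_basicOpen _ _ w hwtop).2 hu) hwC
  have n2 : ¬ IsUnit ((X ⊗ QK).left.presheaf.germ ⊤ w hwtop (h - cX)) := fun hu =>
    Set.disjoint_left.1 hdisj ((Scheme.mem_basicOpen _ _ w hwtop).2 hu) hwcl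
  have hcu : IsUnit ((X ⊗ QK).left.presheaf.germ ⊤ w hwtop cX) :=
    ((hc0.isUnit.map (Scheme.ΓSpecIso (CommRingCat.of K)).inv.hom).map (snd X QK).left.appTop.hom).map _
  have := sub_mem ((IsLocalRing.mem_maximalIdeal _).2 n1) ((IsLocalRing.mem_maximalIdeal _).2 n2)
  rw [map_sub, sub_sub_cancel] at this
  exact (IsLocalRing.mem_maximalIdeal _).1 this hcu

theorem isClosed_range_orbitMap (k : Type u) [Field k] (A : Type u) [CommRing A] [HopfAlgebra k A] [Algebra.FiniteType k A]
    (hU : HopfRep.IsUnipotent k A) (X : Over (Spec (CommRingCat.of k))) [LocallyOfFiniteType X.hom]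
    (hX : Mor2.IsQuasiAffine X.hom)
    (a : AlgGrp.Action ((Spec (CommRingCat.of A)).asOver (Spec (CommRingCat.of k))) X)
    (x : 𝟙_ (Over (Spec (CommRingCat.of k))) ⟶ X) :
    IsClosed (Set.range (a.orbitMap x).left.base) :=
  isClosed_range_orbitMap_aux k (AlgebraicClosure k) A hU X hX a x

end Groth.Agent.UnipOrbit
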