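import Groth.Prelude.Def_HopfRep
import Groth.Agent.S3263
import Mathlib.RingTheory.Coalgebra.Convolution
import Mathlib.RingTheory.Bialgebra.Convolution
import Mathlib.RingTheory.Jacobson.Ring
import Mathlib.RingTheory.Spectrum.Prime.Jacobson
import Mathlib.FieldTheory.IsAlgClosed.Basic
import Mathlib.RingTheory.TensorProduct.Finite
import Mathlib.LinearAlgebra.TensorProduct.Tower

/-! The filtration of a unipotent group, seen by the translations by geometric points. -/

set_option autoImplicit false
universe u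
open TensorProduct WithConv Coalgebra

namespace Groth.Agent.UnipOrbit

variable {k K A : Type u} [Field k] [Field K] [Algebra k K] [CommRing A] [HopfAlgebra k A]

/-- The embedding of the scalars. -/
noncomputable abbrev L : K →ₐ[k] K ⊗[k] A := Algebra.TensorProduct.includeLeft

/-- The embedding of the functions. -/
noncomputable abbrev R : A →ₐ[k] K ⊗[k] A := Algebra.TensorProduct.includeRight

/-- `a ↦ Σ z(a₁) ⊗ a₂`. -/
noncomputable def transR (z : A →ₐ[k] K) : A →ₐ[k] K ⊗[k] A :=
  (toConv ((L (A := A)).comp z) * toConv (R (K := K))).ofConv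

theorem transR_apply (z : A →ₐ[k] K) (a : A) :
    transR z a = TensorProduct.map z.toLinearMap LinearMap.id (comul a) := by
  rw [← (ℛ k a).eq]
  simp [transR, AlgHom.convMul_def, ← (ℛ k a).eq, map_sum]

/-- Translation of functions on `Spec (K ⊗ A)` by a `K`-point. -/
noncomputable def trans (z : A →ₐ[k] K) : K ⊗[k] A →ₐ[K] K ⊗[k] A :=
  Algebra.TensorProduct.lift (Algebra.ofId K _) (transR z) fun _ _ => Commute.all _ _

theorem trans_tmul (z : A →ₐ[k] K) (c : K) (a : A) : trans z (c ⊗ₜ a) = (c ⊗ₜ[k] (1 : A)) * transR z a := rfl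

/-- The evaluation at the unit. -/
noncomputable def counitK : K ⊗[k] A →ₐ[K] K :=
  Algebra.TensorProduct.lift (Algebra.ofId K K) ((Algebra.ofId k K).comp (Bialgebra.counitAlgHom k A))
    fun _ _ => Commute.all _ _

theorem counitK_trans (z : A →ₐ[k] K) (a : A) : counitK (trans z ((1 : K) ⊗ₜ a)) = z a := by
  rw [trans_tmul, transR_apply, ← Algebra.TensorProduct.one_def, one_mul, ← (ℛ k a).eq, map_sum, map_sum]
  simp only [TensorProduct.map_tmul, counitK, Algebra.TensorProduct.lift_tmul, AlgHom.coe_comp, Function.comp_apply,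
    LinearMap.id_coe, id_eq, Bialgebra.counitAlgHom_apply, Algebra.ofId_apply, Algebra.algebraMap_self,
    RingHom.id_apply, AlgHom.toLinearMap_apply]
  have h := congrArg z (Coalgebra.sum_counit_smul (ℛ k a))
  simp only [map_sum, map_smul, Algebra.smul_def] at h
  first
    | exact (Finset.sum_congr rfl fun i _ => mul_comm _ _).trans h
    | skip
  have h' : ∑ i ∈ (ℛ k a).index, counit (R := k) ((ℛ k a).right i) • (ℛ k a).left i = a := by
    have := congrArg (TensorProduct.rid k A) (Coalgebra.sum_tmul_counit_eq (ℛ k a))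
    simp only [map_sum, TensorProduct.rid_tmul, one_smul] at this
    exact this
  conv_rhs => rw [← h']
  rw [map_sum]
  exact Finset.sum_congr rfl fun i _ => by rw [map_smul, Algebra.smul_def, mul_comm]

theorem exists_filtration [Algebra.FiniteType k A] (hU : HopfRep.IsUnipotent k A) (K : Type u) [Field K] [Algebra k K] :
    ∃ F : ℕ → Submodule K (K ⊗[k] A), (∀ g, ∃ r, g ∈ F r) ∧
      (∀ g ∈ F 0, ∃ c : K, g = algebraMap K (K ⊗[k] A) c) ∧
      ∀ (z : A →ₐ[k] K) (r : ℕ), ∀ g ∈ F (r + 1), trans z g - g ∈ F r := by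
  obtain ⟨C, hmono, hC0, htop, hΔ⟩ := (Groth.Agent.S3263.result k A).1 hU
  refine ⟨fun r => (C r).baseChange K, ?_, ?_, ?_⟩
  · intro g
    induction g using TensorProduct.induction_on with
    | zero => exact ⟨0, zero_mem _⟩
    | tmul c a =>
      obtain ⟨r, hr⟩ := (Submodule.mem_iSup_of_directed _ hmono.directed_le).1 (htop ▸ Submodule.mem_top : a ∈ ⨆ r, C r)
      exact ⟨r, Submodule.tmul_mem_baseChange_of_mem _ hr⟩
    | add x y hx hy =>
      obtain ⟨r, hr⟩ := hx
      obtain ⟨s, hs⟩ := hy
      exact ⟨max r s, add_mem (Submodule.baseChange_mono K (hmono (le_max_left r s)) hr)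
        (Submodule.baseChange_mono K (hmono (le_max_right r s)) hs)⟩
  · intro g (hg : g ∈ (C 0).baseChange K)
    rw [show (C 0).baseChange K = Submodule.span K {((1 : K) ⊗ₜ[k] (1 : A))} by
      rw [hC0, Submodule.baseChange_span, Set.image_singleton]; rfl, Submodule.mem_span_singleton] at hg
    obtain ⟨c, rfl⟩ := hg
    exact ⟨c, by rw [Algebra.smul_def, ← Algebra.TensorProduct.one_def, mul_one]⟩
  · intro z r g hg
    let d : K ⊗[k] A →ₗ[K] K ⊗[k] A := (trans z).toLinearMap - LinearMap.id
    suffices h : (C (r + 1)).baseChange K ≤ ((C r).baseChange K).comap d from h hg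
    rw [Submodule.baseChange_eq_span, Submodule.span_le]
    rintro _ ⟨a, ha, rfl⟩
    show trans z ((1 : K) ⊗ₜ a) - (1 : K) ⊗ₜ a ∈ (C r).baseChange K
    let Φ : A ⊗[k] A →ₗ[k] K ⊗[k] A :=
      TensorProduct.map (z.toLinearMap - ((Algebra.ofId k K).comp (Bialgebra.counitAlgHom k A)).toLinearMap) LinearMap.id
    have hval : Φ (comul a) = trans z ((1 : K) ⊗ₜ a) - (1 : K) ⊗ₜ a := by
      rw [trans_tmul, transR_apply, ← Algebra.TensorProduct.one_def, one_mul]
      have h := Coalgebra.rTensor_counit_comul (R := k) a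
      rw [← (ℛ k a).eq] at h ⊢
      simp only [map_sum, LinearMap.rTensor_tmul] at h
      simp only [Φ, map_sum, TensorProduct.map_tmul, LinearMap.sub_apply, sub_tmul, Finset.sum_sub_distrib]
      congr 1
      have := congrArg (TensorProduct.map (Algebra.linearMap k K) LinearMap.id) h
      simp only [map_sum, TensorProduct.map_tmul, LinearMap.id_coe, id_eq, Algebra.linearMap_apply, map_one] at this
      exact this
    rw [← hval]
    have hle : (⨆ i ∈ Finset.range (r + 1 + 1), LinearMap.range (TensorProduct.mapIncl (C i) (C (r + 1 - i)))) ≤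
        (((C r).baseChange K).restrictScalars k).comap Φ := by
      refine iSup₂_le fun i _ => ?_
      rw [TensorProduct.range_mapIncl, Submodule.map₂_le]
      intro x hx y hy
      show Φ (x ⊗ₜ y) ∈ (C r).baseChange K
      rw [show Φ (x ⊗ₜ y) = (z x - algebraMap k K (counit x)) ⊗ₜ y from rfl]
      rcases Nat.eq_zero_or_pos i with rfl | hi
      · rw [hC0, Submodule.mem_span_singleton] at hx
        obtain ⟨t, rfl⟩ := hx
        rw [map_smul, map_smul, map_one, Bialgebra.counit_one, smul_eq_mul, mul_one, Algebra.smul_def, mul_one, sub_self,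
          zero_tmul]
        exact zero_mem _
      · exact Submodule.tmul_mem_baseChange_of_mem _ (hmono (by omega) hy)
    exact hle (hΔ (r + 1) ⟨a, ha, rfl⟩)

/-- Over an algebraically closed field an element killed by all points is nilpotent. -/
theorem isNilpotent_of_points [IsAlgClosed K] {B : Type u} [CommRing B] [Algebra K B] [Algebra.FiniteType K B] {g : B}
    (h : ∀ v : B →ₐ[K] K, v g = 0) : IsNilpotent g := by
  haveI : IsJacobsonRing B := isJacobsonRing_of_finiteType (A := K)
  rw [← mem_nilradical, nilradical]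
  show g ∈ Ideal.radical (⊥ : Ideal B)
  rw [Ideal.radical_eq_jacobson, Ideal.jacobson, Ideal.mem_sInf]
  rintro m ⟨-, hm⟩
  haveI := hm
  letI : Field (B ⧸ m) := Ideal.Quotient.field m
  haveI : Module.Finite K (B ⧸ m) := finite_of_finite_type_of_isJacobsonRing K (B ⧸ m)
  let e := AlgEquiv.ofBijective (Algebra.ofId K (B ⧸ m)) (IsAlgClosed.algebraMap_bijective_of_isIntegral (k := K))
  have h1 := congrArg e (h ((e.symm : B ⧸ m →ₐ[K] K).comp (Ideal.Quotient.mkₐ K m)))
  rw [map_zero] at h1
  exact Ideal.Quotient.eq_zero_iff_mem.1 ((e.apply_symm_apply _).symm.trans h1)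

end Groth.Agent.UnipOrbit
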